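import Groth.Agent.AlgGrp.K815.EtQS
import Groth.Agent.EqInt.K957.QB
import Groth.Agent.EqInt.K957.Glue2

/-!
# Associated bundles `Γ ×^H X` for locally isotrivial principal bundles `Γ ⟶ B`

`hasBundle_prod` : let `Γ ⟶ B` be an `H`-torsor with finite étale quasi-sections locally on `B` and
`X` an `H`-scheme in which finite sets lie in affine opens; then `Γ × X` with the diagonal action has
a principal bundle quotient.
-/

set_option autoImplicit false
universe u
open CategoryTheory CategoryTheory.Limits MonoidalCategory CartesianMonoidalCategory MonObj GrpObj AlgebraicGeometry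

namespace K815.AssocLoc

open K957.Pts K957.QB K957.Restr K957.Invt K957.Glue K815.EtQS Groth.Agent.Books.AlgPts

section general

variable {S : Scheme.{u}} {H Γ B X T : Over S} [GrpObj H] (a : AlgGrp.Action H Γ)
  (aX : AlgGrp.Action H X) {p : Γ ⟶ B}

theorem whisker_fst {T' : Over S} (s : T ⟶ Γ) (z : T' ⟶ T ⊗ X) :
    (z ≫ s ▷ X) ≫ fst Γ X = (z ≫ fst T X) ≫ s := by
  rw [Category.assoc, whiskerRight_fst, Category.assoc]

theorem whisker_snd {T' : Over S} (s : T ⟶ Γ) (z : T' ⟶ T ⊗ X) :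
    (z ≫ s ▷ X) ≫ snd Γ X = z ≫ snd T X := by
  rw [Category.assoc, whiskerRight_snd]

/-- `(h, t, x) ↦ h⁻¹ (s t, x)` is the base change of `T ⟶ B` to `Γ × X` -/
theorem isPullback_qmap (Hp : IsPullback a.act (snd H Γ) p p) (s : T ⟶ Γ) :
    IsPullback (qmap (a.prod aX) (s ▷ X)) (snd H (T ⊗ X) ≫ fst T X) (fst Γ X ≫ p) (s ≫ p) := by
  have w : qmap (a.prod aX) (s ▷ X) ≫ fst Γ X ≫ p = (snd H (T ⊗ X) ≫ fst T X) ≫ s ≫ p := by
    rw [qmap, ← Category.assoc, dot_prod_fst, dot_inv a Hp.w, whisker_fst, Category.assoc]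
  refine ⟨⟨w⟩, ⟨PullbackCone.IsLimit.mk _
    (fun c => lift (exists_dot a Hp (c.snd ≫ s) (c.fst ≫ fst Γ X) (by
      rw [Category.assoc, Category.assoc]; exact c.condition.symm)).choose
      (lift c.snd (dot aX (exists_dot a Hp (c.snd ≫ s) (c.fst ≫ fst Γ X) (by
      rw [Category.assoc, Category.assoc]; exact c.condition.symm)).choose (c.fst ≫ snd Γ X))))
    ?_ ?_ ?_⟩⟩
  · intro c
    have hh := (exists_dot a Hp (c.snd ≫ s) (c.fst ≫ fst Γ X) (by
      rw [Category.assoc, Category.assoc]; exact c.condition.symm)).choose_spec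
    generalize (exists_dot a Hp (c.snd ≫ s) (c.fst ≫ fst Γ X) (by
      rw [Category.assoc, Category.assoc]; exact c.condition.symm)).choose = h at hh
    rw [lift_qmap]
    apply CartesianMonoidalCategory.hom_ext
    · rw [dot_prod_fst, whisker_fst, lift_fst, ← hh, inv_dot_dot]
    · rw [dot_prod_snd, whisker_snd, lift_snd, inv_dot_dot]
  · intro c
    rw [← Category.assoc, lift_snd, lift_fst]
  · intro c m h1 h2
    have hh := (exists_dot a Hp (c.snd ≫ s) (c.fst ≫ fst Γ X) (by
      rw [Category.assoc, Category.assoc]; exact c.condition.symm)).choose_spec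
    generalize (exists_dot a Hp (c.snd ≫ s) (c.fst ≫ fst Γ X) (by
      rw [Category.assoc, Category.assoc]; exact c.condition.symm)).choose = h at hh
    have hm : m = lift (m ≫ fst _ _) (m ≫ snd _ _) := by rw [lift_comp_fst_snd]
    generalize hh' : m ≫ fst H (T ⊗ X) = h' at hm
    generalize hz' : m ≫ snd H (T ⊗ X) = z' at hm
    have h3 : z' ≫ fst T X = c.snd := by rw [← hz', Category.assoc]; exact h2
    rw [hm, lift_qmap] at h1
    have h4 : dot a h'⁻¹ (c.snd ≫ s) = c.fst ≫ fst Γ X := by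
      rw [← h1, dot_prod_fst, whisker_fst, h3]
    have h5 : dot aX h'⁻¹ (z' ≫ snd T X) = c.fst ≫ snd Γ X := by
      rw [← h1, dot_prod_snd, whisker_snd]
    have h6 : h' = h := by
      apply dot_cancel a Hp (y := c.fst ≫ fst Γ X)
      rw [hh, ← h4, dot_inv_dot]
    rw [hm, ← h6, ← h5, dot_inv_dot]
    congr 1
    apply CartesianMonoidalCategory.hom_ext
    · rw [lift_fst, h3]
    · rw [lift_snd]

theorem free_prod (Hp : IsPullback a.act (snd H Γ) p p) (T' : Over S) (g g' : T' ⟶ H)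
    (y : T' ⟶ Γ ⊗ X) (h : dot (a.prod aX) g y = dot (a.prod aX) g' y) : g = g' := by
  apply dot_cancel a Hp (y := y ≫ fst Γ X)
  rw [← dot_prod_fst a aX, ← dot_prod_fst a aX, h]

theorem isPullback_whiskerRight {P P' : Over S} (F : P ⟶ P') :
    IsPullback (F ▷ X) (fst P X) (fst P' X) F := by
  refine ⟨⟨by rw [whiskerRight_fst]⟩, ⟨PullbackCone.IsLimit.mk _
    (fun c => lift c.snd (c.fst ≫ snd P' X)) ?_ ?_ ?_⟩⟩
  · intro c
    apply CartesianMonoidalCategory.hom_ext
    · simp [c.condition]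
    · simp
  · intro c
    simp
  · intro c m h1 h2
    apply CartesianMonoidalCategory.hom_ext
    · rw [lift_fst, h2]
    · rw [lift_snd, ← h1]; simp

end general

section local_

variable {k : Type u} [Field k] [IsAlgClosed k] {H Γ B X T : Over (Spec (CommRingCat.of k))}
  [GrpObj H] (a : AlgGrp.Action H Γ) (aX : AlgGrp.Action H X) {p : Γ ⟶ B}

omit [IsAlgClosed k] in
/-- finite sets of points of `T × X` lie in affine opens -/
theorem exists_affine_prod [IsAffine T.left]
    (hF : ∀ F : Finset ↥X.left, ∃ U : X.left.Opens, IsAffineOpen U ∧ (↑F : Set ↥X.left) ⊆ (U : Set ↥X.left))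
    (F : Set (T ⊗ X).left) (hFin : F.Finite) :
    ∃ V : (T ⊗ X).left.Opens, IsAffineOpen V ∧ F ⊆ (V : Set (T ⊗ X).left) := by
  classical
  obtain ⟨U, hU, hUF⟩ := hF (hFin.image (snd T X).left).toFinset
  have h1 : IsAffineHom (snd T X).left := by
    have : IsAffineHom T.hom := inferInstance
    exact MorphismProperty.of_isPullback (P := @IsAffineHom)
      (IsPullback.of_hasPullback T.hom X.hom) this
  refine ⟨(snd T X).left ⁻¹ᵁ U, hU.preimage _, fun z hz => ?_⟩
  exact hUF (by simpa using ⟨z, hz, rfl⟩)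

/-- the quotient exists in presence of a finite étale quasi-section -/
theorem hasBundle_of_section (Hp : IsPullback a.act (snd H Γ) p p) (s : T ⟶ Γ) [Flat H.hom]
    [LocallyOfFiniteType H.hom] [LocallyOfFiniteType Γ.hom] [LocallyOfFiniteType X.hom]
    [QuasiCompact Γ.hom] [QuasiCompact X.hom] [IsAffine T.left] [LocallyOfFiniteType T.hom]
    (h1 : IsFinite (s ≫ p).left) (h2 : Etale (s ≫ p).left) (h3 : Surjective (s ≫ p).left)
    (hF : ∀ F : Finset ↥X.left, ∃ U : X.left.Opens, IsAffineOpen U ∧ (↑F : Set ↥X.left) ⊆ (U : Set ↥X.left)) :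
    HasBundle (a.prod aX) := by
  have sq := isPullback_left (isPullback_qmap a aX Hp s)
  have i1 : IsFinite (qmap (a.prod aX) (s ▷ X)).left :=
    MorphismProperty.of_isPullback (P := @IsFinite) sq.flip h1
  have i2 : Etale (qmap (a.prod aX) (s ▷ X)).left :=
    MorphismProperty.of_isPullback (P := @Etale) sq.flip h2
  have i3 : Surjective (qmap (a.prod aX) (s ▷ X)).left :=
    MorphismProperty.of_isPullback (P := @Surjective) sq.flip h3
  have hN : IsNoetherianRing (CommRingCat.of k) := inferInstanceAs (IsNoetherianRing k)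
  have j1 : LocallyOfFiniteType (Γ ⊗ X).hom := by
    change LocallyOfFiniteType (pullback.fst Γ.hom X.hom ≫ Γ.hom)
    infer_instance
  have j1' : LocallyOfFiniteType (T ⊗ X).hom := by
    change LocallyOfFiniteType (pullback.fst T.hom X.hom ≫ T.hom)
    infer_instance
  have j2 : QuasiCompact (Γ ⊗ X).hom := by
    change QuasiCompact (pullback.fst Γ.hom X.hom ≫ Γ.hom)
    infer_instance
  have j3 : IsLocallyNoetherian (Γ ⊗ X).left := LocallyOfFiniteType.isLocallyNoetherian (Γ ⊗ X).hom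
  have j4 : CompactSpace (Γ ⊗ X).left := QuasiCompact.compactSpace_of_compactSpace (Γ ⊗ X).hom
  have j5 : IsNoetherian (Γ ⊗ X).left := ⟨⟩
  have j6 : LocallyOfFiniteType (s ▷ X).left := by
    have : LocallyOfFiniteType ((s ▷ X).left ≫ (Γ ⊗ X).hom) := by rw [Over.w]; exact j1'
    exact locallyOfFiniteType_of_comp _ (Γ ⊗ X).hom
  refine hasBundle_of_qmap (a.prod aX) (s ▷ X) (free_prod a aX Hp) ⟨i1, inferInstance, inferInstance⟩
    i3 ?_
  refine orbit_cond (a.prod aX) (s ▷ X) i1 ?_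
  intro x s' hs' _
  obtain ⟨V, hV, hVF⟩ := exists_affine_prod hF ((fun r : _ × (_ ⟶ T ⊗ X) => pt r.2) '' s') (hs'.image _)
  exact ⟨V, hV, fun r hr => hVF ⟨r, hr, rfl⟩⟩

/-- **Associated bundles.** -/
theorem hasBundle_prod (Hp : IsPullback a.act (snd H Γ) p p) [Flat H.hom]
    [LocallyOfFiniteType H.hom] [LocallyOfFiniteType Γ.hom] [LocallyOfFiniteType X.hom]
    [QuasiCompact Γ.hom] [QuasiCompact X.hom] [LocallyOfFiniteType B.hom]
    (hQE : ∀ y : B.left, QE p.left y)
    (hF : ∀ F : Finset ↥X.left, ∃ U : X.left.Opens, IsAffineOpen U ∧ (↑F : Set ↥X.left) ⊆ (U : Set ↥X.left)) :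
    HasBundle (a.prod aX) := by
  have hN : IsNoetherianRing (CommRingCat.of k) := inferInstanceAs (IsNoetherianRing k)
  have hG1 : IsLocallyNoetherian Γ.left := LocallyOfFiniteType.isLocallyNoetherian Γ.hom
  have hG2 : CompactSpace Γ.left := QuasiCompact.compactSpace_of_compactSpace Γ.hom
  have hG3 : IsNoetherian Γ.left := ⟨⟩
  refine HasBundle.glue' _ fun z => ?_
  obtain ⟨W, T₀, f, s, hWa, hyW, hf1, hf2, hf3, hs⟩ := (hQE (p.left ((fst Γ X).left z))).affine
  have hWaff : IsAffine W.toScheme := hWa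
  let T : Over (Spec (CommRingCat.of k)) := Over.mk (f ≫ W.ι ≫ B.hom)
  have hT : IsAffine T.left := by
    change IsAffine T₀
    exact isAffine_of_isAffineHom f
  have hT2 : LocallyOfFiniteType T.hom := by
    change LocallyOfFiniteType (f ≫ W.ι ≫ B.hom)
    infer_instance
  let f' : T ⟶ XU W := Over.homMk f rfl
  let s₀ : T ⟶ Γ := Over.homMk s (by
    change s ≫ Γ.hom = f ≫ W.ι ≫ B.hom
    rw [← Over.w p, reassoc_of% hs])
  have hs₀ : s₀ ≫ p = f' ≫ iU W := Over.OverMorphism.ext hs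
  have sq := isPullback_resOver p W
  let s' : T ⟶ XU (p.left ⁻¹ᵁ W) := sq.lift s₀ f' hs₀
  have hs' : s' ≫ resOver p W = f' := sq.lift_snd _ _ _
  have k1 : LocallyOfFiniteType (XU (p.left ⁻¹ᵁ W)).hom := by
    change LocallyOfFiniteType ((p.left ⁻¹ᵁ W).ι ≫ Γ.hom)
    infer_instance
  have k2 : QuasiCompact (XU (p.left ⁻¹ᵁ W)).hom := by
    change QuasiCompact ((p.left ⁻¹ᵁ W).ι ≫ Γ.hom)
    infer_instance
  have hb := hasBundle_of_section (K957.Restr.restrict a _ (preimage_inv a Hp.w W)) aX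
    (K957.DescOver.isPullback_resOver_act a Hp W) s' (by rw [hs']; exact hf1)
    (by rw [hs']; exact hf2) (by rw [hs']; exact hf3) hF
  have sq2 := isPullback_left (isPullback_whiskerRight (X := X) (iU (p.left ⁻¹ᵁ W)))
  refine ⟨XU (p.left ⁻¹ᵁ W) ⊗ X, _, iU (p.left ⁻¹ᵁ W) ▷ X, ?_, ?_, ?_, hb⟩
  · exact MorphismProperty.of_isPullback (P := @IsOpenImmersion) sq2.flip inferInstance
  · apply isEquivariant_of_dot
    intro T' g x
    apply CartesianMonoidalCategory.hom_ext
    · rw [whisker_fst, dot_prod_fst, dot_prod_fst, whisker_fst]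
      exact dot_comp _ (restrict_isEquivariant a _ (preimage_inv a Hp.w W)) _ _
    · rw [whisker_snd, dot_prod_snd, dot_prod_snd, whisker_snd]
  · obtain ⟨z', h1, -⟩ := Scheme.exists_preimage_of_isPullback sq2 z
      (⟨(fst Γ X).left z, hyW⟩ : (p.left ⁻¹ᵁ W : Γ.left.Opens)) rfl
    exact ⟨z', h1⟩

end local_

end K815.AssocLoc
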