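import Groth.Agent.GIT.K690.EqMat

/-!
# Equivariant invertible matrices on flat affine charts of a torsor which need not be affine

`exists_chartMat` : for an `M`-torsor `π : G ⟶ Q` (flat, surjective, locally of finite presentation, not
necessarily affine) and a matrix representation `ρ` of `M`, every point of `Q` has a neighbourhood `V`
such that over every affine open `U ≤ V` there are a flat affine chart `s : Spec R ⟶ G` with image of
`Spec R ⟶ Q` equal to `U` and an invertible equivariant matrix over `R`.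
-/

set_option autoImplicit false
universe u
open CategoryTheory CategoryTheory.Limits MonoidalCategory CartesianMonoidalCategory MonObj
  AlgebraicGeometry

namespace K815.ChartMat

open K690.LocSec K690.Torsor K690.Coinv K690.Chart AlgGrp.Action CoactBr K690.EqMat

lemma isPullback_of_mono {C : Type*} [Category C] {X Y Z : C} (f : X ⟶ Y) (j : Y ⟶ Z) [Mono j] :
    IsPullback (𝟙 X) f (f ≫ j) j :=
  ⟨⟨by simp⟩, ⟨PullbackCone.IsLimit.mk _ (fun s => s.fst) (by simp)
    (fun s => by rw [← cancel_mono j, Category.assoc]; exact s.condition)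
    (fun s m h1 _ => by simpa using h1)⟩⟩

lemma isIso_left {S : Scheme.{u}} {X Y : Over S} (e : X ≅ Y) : IsIso e.hom.left :=
  ((Over.forget S).mapIso e).isIso_hom

section chart

variable {k : Type u} [CommRing k] {X Y : Over (Spec (CommRingCat.of k))}

/-- a point of `X` has an affine open neighbourhood mapping into a given open -/
lemma exists_nbhd_in (X : Over (Spec (CommRingCat.of k))) (W : X.left.Opens) (x : X.left) (hx : x ∈ W) :
    ∃ (B : Type u) (_ : CommRing B) (_ : Algebra k B) (j : sp k B ⟶ X),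
      IsOpenImmersion j.left ∧ x ∈ Set.range j.left ∧ Set.range j.left ⊆ (W : Set X.left) := by
  obtain ⟨_, ⟨V₀, hV₀, rfl⟩, hyV, hVW⟩ :=
    X.left.isBasis_affineOpens.exists_subset_of_mem_open hx W.2
  let V : X.left.Opens := V₀
  have : IsAffine (Over.mk (V.ι ≫ X.hom)).left := hV₀
  obtain ⟨B, _, _, ⟨e⟩⟩ := exists_iso_sp (Over.mk (V.ι ≫ X.hom))
  have he := isIso_left e
  refine ⟨B, inferInstance, inferInstance, e.hom ≫ Over.homMk V.ι, ?_, ?_, ?_⟩
  · rw [Over.comp_left]
    have h1 : IsOpenImmersion (Over.homMk V.ι : Over.mk (V.ι ≫ X.hom) ⟶ X).left :=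
      inferInstanceAs (IsOpenImmersion V.ι)
    infer_instance
  · obtain ⟨z, hz⟩ := e.hom.left.surjective (⟨x, hyV⟩ : V)
    refine ⟨z, ?_⟩
    rw [Over.comp_left, Scheme.Hom.comp_apply, hz]
    rfl
  · rintro _ ⟨z, rfl⟩
    rw [Over.comp_left, Scheme.Hom.comp_apply]
    exact hVW (e.hom.left z).2

/-- an affine open as a chart -/
lemma exists_chart_of_isAffineOpen (Y : Over (Spec (CommRingCat.of k))) (U : Y.left.Opens)
    (hU : IsAffineOpen U) :
    ∃ (B : Type u) (_ : CommRing B) (_ : Algebra k B) (j : sp k B ⟶ Y),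
      IsOpenImmersion j.left ∧ Set.range j.left = (U : Set Y.left) := by
  have : IsAffine (Over.mk (U.ι ≫ Y.hom)).left := hU
  obtain ⟨B, _, _, ⟨e⟩⟩ := exists_iso_sp (Over.mk (U.ι ≫ Y.hom))
  have he := isIso_left e
  refine ⟨B, inferInstance, inferInstance, e.hom ≫ Over.homMk U.ι, ?_, ?_⟩
  · rw [Over.comp_left]
    have h1 : IsOpenImmersion (Over.homMk U.ι : Over.mk (U.ι ≫ Y.hom) ⟶ Y).left :=
      inferInstanceAs (IsOpenImmersion U.ι)
    infer_instance
  · ext y
    constructor
    · rintro ⟨z, rfl⟩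
      rw [Over.comp_left, Scheme.Hom.comp_apply]
      exact (e.hom.left z).2
    · intro hy
      obtain ⟨z, hz⟩ := e.hom.left.surjective (⟨y, hy⟩ : U)
      refine ⟨z, ?_⟩
      rw [Over.comp_left, Scheme.Hom.comp_apply, hz]
      rfl

/-- a flat surjective morphism locally of finite presentation has, near a point of the target, a
faithfully flat affine chart -/
lemma exists_flat_chart (φ : X ⟶ Y) [Flat φ.left] [Surjective φ.left]
    [LocallyOfFinitePresentation φ.left] (y : Y.left) :
    ∃ (B : Type u) (_ : CommRing B) (_ : Algebra k B) (R : Type u) (_ : CommRing R)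
      (_ : Algebra k R) (β : B →ₐ[k] R) (j : sp k B ⟶ Y) (jX : sp k R ⟶ X),
      IsOpenImmersion j.left ∧ y ∈ Set.range j.left ∧ jX ≫ φ = pt β ≫ j ∧
      Flat (pt β).left ∧ Surjective (pt β).left := by
  obtain ⟨x, hx⟩ := φ.left.surjective y
  obtain ⟨B₀, _, _, j₀, hj₀, hy₀⟩ := exists_nbhd Y y
  obtain ⟨R₀, _, _, i₀, hi₀, hx₀, hi₀W⟩ := exists_nbhd_in X (φ.left ⁻¹ᵁ j₀.left.opensRange) x (by
    change φ.left x ∈ Set.range j₀.left
    rw [hx]; exact hy₀)
  -- the factorisation
  have hfac : Set.range (i₀ ≫ φ).left ⊆ Set.range j₀.left := by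
    rintro _ ⟨z, rfl⟩
    rw [Over.comp_left, Scheme.Hom.comp_apply]
    exact hi₀W ⟨z, rfl⟩
  let l : sp k R₀ ⟶ sp k B₀ := Over.homMk (IsOpenImmersion.lift j₀.left (i₀ ≫ φ).left hfac) (by
    rw [← Over.w j₀, IsOpenImmersion.lift_fac_assoc, Over.w])
  have hl : l ≫ j₀ = i₀ ≫ φ := Over.OverMorphism.ext (IsOpenImmersion.lift_fac _ _ _)
  obtain ⟨β₀, hβ₀⟩ := exists_pt l
  have hflat : Flat (pt β₀).left := by
    have h1 : Flat ((pt β₀).left ≫ j₀.left) := by
      rw [← Over.comp_left, hβ₀, hl, Over.comp_left]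
      infer_instance
    exact MorphismProperty.of_isPullback (P := @Flat) (isPullback_of_mono _ j₀.left) h1
  have hlfp : LocallyOfFinitePresentation (pt β₀).left := by
    have h1 : LocallyOfFinitePresentation ((pt β₀).left ≫ j₀.left) := by
      rw [← Over.comp_left, hβ₀, hl, Over.comp_left]
      infer_instance
    exact MorphismProperty.of_isPullback (P := @LocallyOfFinitePresentation)
      (isPullback_of_mono _ j₀.left) h1
  -- shrink the target
  obtain ⟨p, hp⟩ := hy₀
  have hpr : p ∈ Set.range (pt β₀).left := by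
    obtain ⟨z, hz⟩ := hx₀
    refine ⟨z, ?_⟩
    apply j₀.left.injective
    rw [← Scheme.Hom.comp_apply, ← Over.comp_left, hβ₀, hl, Over.comp_left, Scheme.Hom.comp_apply, hz,
      hx, hp]
  have hop : IsOpen (Set.range (pt β₀).left) := (pt β₀).left.isOpenMap.isOpen_range
  obtain ⟨_, ⟨b, rfl⟩, hpb, hbU⟩ :=
    (PrimeSpectrum.isTopologicalBasis_basic_opens (R := B₀)).exists_subset_of_mem_open hpr hop
  let g₀ : B₀ →ₐ[k] Localization.Away b := IsScalarTower.toAlgHom k B₀ (Localization.Away b)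
  obtain ⟨R, _, _, l', r', hlr⟩ := isPullback_tensor β₀ g₀
  have hg₀ : IsOpenImmersion (pt g₀).left :=
    inferInstanceAs (IsOpenImmersion (Spec.map (CommRingCat.ofHom
      (algebraMap B₀ (Localization.Away b)))))
  have hrg : Set.range (pt g₀).left = (PrimeSpectrum.basicOpen b : Set (PrimeSpectrum B₀)) :=
    PrimeSpectrum.localization_away_comap_range (Localization.Away b) b
  have hlr' := hlr.map (Over.forget _)
  refine ⟨Localization.Away b, inferInstance, inferInstance, R, inferInstance, inferInstance, r',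
    pt g₀ ≫ j₀, pt l' ≫ i₀, ?_, ?_, ?_, ?_, ?_⟩
  · rw [Over.comp_left]
    infer_instance
  · obtain ⟨z, hz⟩ : p ∈ Set.range (pt g₀).left := by rw [hrg]; exact hpb
    exact ⟨z, by rw [Over.comp_left, Scheme.Hom.comp_apply, hz, hp]⟩
  · rw [Category.assoc, ← hl, ← hβ₀, ← Category.assoc, hlr.w, Category.assoc]
  · exact MorphismProperty.of_isPullback (P := @Flat) hlr' hflat
  · constructor
    intro z
    have h0 : (pt g₀).left z ∈ Set.range (pt g₀).left := ⟨z, rfl⟩
    have h1 : (pt g₀).left z ∈ Set.range (pt β₀).left := hbU (hrg.le h0)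
    obtain ⟨w, hw⟩ := h1
    obtain ⟨w', -, h2⟩ := Scheme.exists_preimage_of_isPullback hlr' w z hw
    exact ⟨w', h2⟩

end chart

/-- **Equivariant matrices on charts of a torsor which need not be affine.** -/
theorem exists_chartMat {k : Type u} [Field k] {M G Q : Over (Spec (CommRingCat.of k))} [GrpObj M]
    {a : AlgGrp.Action M G} {π : G ⟶ Q} (hcart : IsPullback a.act (snd M G) π π)
    [Flat π.left] [Surjective π.left] [LocallyOfFinitePresentation π.left]
    {n : ℕ} (ρ : MatRep k M n) (q : Q.left) :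
    ∃ V : Q.left.Opens, q ∈ V ∧ ∀ U : Q.left.Opens, U ≤ V → IsAffineOpen U →
      ∃ (R : Type u) (_ : CommRing R) (_ : Algebra k R) (s : sp k R ⟶ G) (M₀ : Matrix (Fin n) (Fin n) R),
        Flat (s ≫ π).left ∧ Set.range (s ≫ π).left = (U : Set Q.left) ∧ IsUnit M₀.det ∧
        ∀ (C : Type u) [CommRing C] [Algebra k C] (x y : R →ₐ[k] C) (g : sp k C ⟶ M),
          lift g (pt y ≫ s) ≫ a.act = pt x ≫ s → ρ.c g * M₀.map y = M₀.map x := by
  obtain ⟨B₀, _, _, R₀, _, _, β₀, j₀, jX₀, hj₀, ⟨p, hp⟩, hw', hfl, hsu⟩ := exists_flat_chart π q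
  let _ : Algebra B₀ R₀ := β₀.toRingHom.toAlgebra
  have : IsScalarTower k B₀ R₀ := IsScalarTower.of_algebraMap_eq fun r => (β₀.commutes r).symm
  have hβ₀ : IsScalarTower.toAlgHom k B₀ R₀ = β₀ := rfl
  have hfl' : Module.Flat B₀ R₀ := RingHom.flat_algebraMap_iff.1 (Flat.SpecMap_iff.1 hfl)
  have hsu' : Function.Surjective (PrimeSpectrum.comap (algebraMap B₀ R₀)) := hsu.1
  have hw : jX₀ ≫ π = pt (IsScalarTower.toAlgHom k B₀ R₀) ≫ j₀ := hw'
  obtain ⟨b, hb, M₀, hM₀, m, r, hr⟩ :=
    (coc hcart j₀ jX₀ hw ρ).exists_trivialisation hsu' p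
  have hmono : Mono j₀ := Over.mono_of_mono_left j₀
  let V : Q.left.Opens := j₀.left ''ᵁ (PrimeSpectrum.basicOpen b : (Spec (CommRingCat.of B₀)).Opens)
  refine ⟨V, ⟨p, hb, hp⟩, fun U hUV hU => ?_⟩
  obtain ⟨B, _, _, j, hj, hjU⟩ := exists_chart_of_isAffineOpen Q U hU
  -- `U ⟶ Spec B₀`
  have hfac : Set.range j.left ⊆ Set.range j₀.left := by
    rw [hjU]
    intro z hz
    obtain ⟨w, -, hw⟩ := hUV hz
    exact ⟨w, hw⟩
  let l : sp k B ⟶ sp k B₀ := Over.homMk (IsOpenImmersion.lift j₀.left j.left hfac) (by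
    rw [← Over.w j₀, IsOpenImmersion.lift_fac_assoc, Over.w])
  have hl : l ≫ j₀ = j := Over.OverMorphism.ext (IsOpenImmersion.lift_fac _ _ _)
  obtain ⟨g₀, hg₀⟩ := exists_pt l
  obtain ⟨R, _, _, l', r', hlr⟩ := isPullback_tensor β₀ g₀
  have hlr' := hlr.map (Over.forget _)
  have hs : (pt l' ≫ jX₀) ≫ π = pt r' ≫ j := by
    rw [Category.assoc, hw', ← Category.assoc, hlr.w, Category.assoc, hg₀, hl]
  have hfr : Flat (pt r').left := MorphismProperty.of_isPullback (P := @Flat) hlr' hfl
  have hsr : Surjective (pt r').left := MorphismProperty.of_isPullback (P := @Surjective) hlr' hsu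
  refine ⟨R, inferInstance, inferInstance, pt l' ≫ jX₀, M₀.map l', ?_, ?_, ?_, ?_⟩
  · rw [hs, Over.comp_left]
    infer_instance
  · rw [hs, ← hjU, Over.comp_left, Scheme.Hom.comp_base, TopCat.coe_comp, Set.range_comp,
      (pt r').left.surjective.range_eq, Set.image_univ]
  · have hunit : IsUnit (g₀ b) := by
      by_contra hnu
      obtain ⟨P, hP, hbP⟩ := exists_max_ideal_of_mem_nonunits hnu
      let z : (sp k B).left := (⟨P, hP.isPrime⟩ : PrimeSpectrum B)
      have h1 : j.left z ∈ (U : Set Q.left) := by rw [← hjU]; exact ⟨z, rfl⟩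
      obtain ⟨w, hw1, hw2⟩ := hUV h1
      have h2 : j₀.left w = j₀.left ((pt g₀).left z) := by
        refine Eq.trans (hw2 : j₀.left w = j.left z) ?_
        rw [hg₀, ← Scheme.Hom.comp_apply, ← Over.comp_left, hl]
      have h3 := j₀.left.injective h2
      rw [h3] at hw1
      exact hw1 hbP
    have h1 : (M₀.map l').det = l' M₀.det := (RingHom.map_det l'.toRingHom M₀).symm
    rw [h1]
    apply isUnit_of_mul_isUnit_left (y := l' r)
    rw [← map_mul, hr, map_pow]
    have h2 : l' (algebraMap B₀ R₀ b) = r' (g₀ b) := by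
      have h3 : l'.comp β₀ = r'.comp g₀ := by
        apply pt_injective
        rw [pt_comp, pt_comp]
        exact hlr.w
      exact DFunLike.congr_fun h3 b
    rw [h2]
    exact (hunit.map r').pow m
  · intro C _ _ x x' g hg
    have hx : (x.comp l').comp β₀ = (x'.comp l').comp β₀ := by
      apply pt_injective
      rw [← cancel_mono j₀]
      have h1 : (pt x ≫ pt l' ≫ jX₀) ≫ π = (pt x' ≫ pt l' ≫ jX₀) ≫ π := by
        rw [← hg]
        exact invariant_pt hcart.w g _
      rw [Category.assoc, Category.assoc, Category.assoc, Category.assoc, hw] at h1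
      rw [pt_comp, pt_comp, pt_comp, pt_comp]
      simp only [Category.assoc]
      exact h1
    let _ : Algebra B₀ C := ((x.comp l').comp β₀).toRingHom.toAlgebra
    have : IsScalarTower k B₀ C :=
      IsScalarTower.of_algebraMap_eq fun r => (((x.comp l').comp β₀).commutes r).symm
    let α : R₀ →ₐ[B₀] C := { (x.comp l').toRingHom with commutes' := fun z => rfl }
    let α' : R₀ →ₐ[B₀] C :=
      { (x'.comp l').toRingHom with commutes' := fun z => (DFunLike.congr_fun hx z).symm }
    have h1 := hM₀ C α α'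
    have h2 : (coc hcart j₀ jX₀ hw ρ).c α α' = ρ.c g := by
      apply coc_c
      have e1 : pt (α'.restrictScalars k) ≫ jX₀ = pt x' ≫ pt l' ≫ jX₀ := by
        rw [← Category.assoc, ← pt_comp]
        rfl
      have e2 : pt (α.restrictScalars k) ≫ jX₀ = pt x ≫ pt l' ≫ jX₀ := by
        rw [← Category.assoc, ← pt_comp]
        rfl
      rw [e1, e2]
      exact hg
    rw [h2] at h1
    exact h1

end K815.ChartMat
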