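import Groth.Agent.EqInt.K957.Isotriv
import Groth.Agent.FlatA.EtaleSections
import Groth.Agent.FlatA.FiniteDenseOpen
import Groth.Agent.S3017

import Mathlib.AlgebraicGeometry.Morphisms.LocalFlatDescent

/-!
# Finite étale quasi-sections of quotient maps `G ⟶ H \ G`

`QE π y` : over an open neighbourhood `W` of `y` the morphism `π` has a section after a finite étale
surjective base change `T ⟶ W`.  For a smooth closed subgroup `H` of a smooth group `G` of finite
type over an algebraically closed field this holds everywhere on `H \ G` (`QE_quotient`).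
-/

set_option autoImplicit false
universe u
open CategoryTheory CategoryTheory.Limits MonoidalCategory CartesianMonoidalCategory MonObj GrpObj AlgebraicGeometry

namespace K815.EtQS

open K957.Isotriv Groth.Agent.Books.AlgPts

/-- near `y` the morphism `π` has a finite étale quasi-section -/
def QE {U B : Scheme.{u}} (π : U ⟶ B) (y : B) : Prop :=
  ∃ (W : B.Opens) (T : Scheme.{u}) (f : T ⟶ W) (s : T ⟶ U), y ∈ W ∧ IsFinite f ∧ Etale f ∧
    Surjective f ∧ s ≫ π = f ≫ W.ι

variable {U B U' B' : Scheme.{u}} {π : U ⟶ B} {π' : U' ⟶ B'}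

theorem QE.of_isPullback {F : U ⟶ U'} {f : B ⟶ B'} (H : IsPullback F π π' f) {y : B}
    (h : QE π' (f y)) : QE π y := by
  obtain ⟨W, T, g, s, hy, hg1, hg2, hg3, hs⟩ := h
  have H2 : IsPullback (pullback.fst (f ∣_ W) g) (pullback.snd (f ∣_ W) g) (f ∣_ W) g :=
    IsPullback.of_hasPullback _ _
  refine ⟨f ⁻¹ᵁ W, pullback (f ∣_ W) g, pullback.fst _ _, H.lift (pullback.snd (f ∣_ W) g ≫ s)
    (pullback.fst (f ∣_ W) g ≫ (f ⁻¹ᵁ W).ι) ?_, hy, ?_, ?_, ?_, ?_⟩
  · rw [Category.assoc, hs, ← H2.w_assoc, Category.assoc, morphismRestrict_ι]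
  · exact MorphismProperty.of_isPullback (P := @IsFinite) H2.flip hg1
  · exact MorphismProperty.of_isPullback (P := @Etale) H2.flip hg2
  · exact MorphismProperty.of_isPullback (P := @Surjective) H2.flip hg3
  · exact H.lift_snd _ _ _

/-- one may shrink the neighbourhood -/
theorem QE.restrict {y : B} (W' : B.Opens) (hy' : y ∈ W') (h : QE π y) :
    ∃ (W : B.Opens) (T : Scheme.{u}) (f : T ⟶ W) (s : T ⟶ U), W ≤ W' ∧ y ∈ W ∧ IsFinite f ∧
      Etale f ∧ Surjective f ∧ s ≫ π = f ≫ W.ι := by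
  obtain ⟨W, T, g, s, hy, hg1, hg2, hg3, hs⟩ := h
  have hle : W ⊓ W' ≤ W := inf_le_left
  have H2 : IsPullback (pullback.fst (B.homOfLE hle) g) (pullback.snd (B.homOfLE hle) g)
    (B.homOfLE hle) g := IsPullback.of_hasPullback _ _
  refine ⟨W ⊓ W', pullback (B.homOfLE hle) g, pullback.fst _ _, pullback.snd _ _ ≫ s, inf_le_right,
    ⟨hy, hy'⟩, ?_, ?_, ?_, ?_⟩
  · exact MorphismProperty.of_isPullback (P := @IsFinite) H2.flip hg1
  · exact MorphismProperty.of_isPullback (P := @Etale) H2.flip hg2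
  · exact MorphismProperty.of_isPullback (P := @Surjective) H2.flip hg3
  · rw [Category.assoc, hs, ← H2.w_assoc, Scheme.homOfLE_ι]

/-- one may take the neighbourhood affine -/
theorem QE.affine {y : B} (h : QE π y) :
    ∃ (W : B.Opens) (T : Scheme.{u}) (f : T ⟶ W) (s : T ⟶ U), IsAffineOpen W ∧ y ∈ W ∧ IsFinite f ∧
      Etale f ∧ Surjective f ∧ s ≫ π = f ≫ W.ι := by
  obtain ⟨W, T, g, s, hy, hg1, hg2, hg3, hs⟩ := h
  obtain ⟨_, ⟨V, hV, rfl⟩, hyV, hVW⟩ :=
    B.isBasis_affineOpens.exists_subset_of_mem_open hy W.2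
  have hle : V ≤ W := hVW
  have H2 : IsPullback (pullback.fst (B.homOfLE hle) g) (pullback.snd (B.homOfLE hle) g)
    (B.homOfLE hle) g := IsPullback.of_hasPullback _ _
  refine ⟨V, pullback (B.homOfLE hle) g, pullback.fst _ _, pullback.snd _ _ ≫ s, hV, hyV, ?_, ?_,
    ?_, ?_⟩
  · exact MorphismProperty.of_isPullback (P := @IsFinite) H2.flip hg1
  · exact MorphismProperty.of_isPullback (P := @Etale) H2.flip hg2
  · exact MorphismProperty.of_isPullback (P := @Surjective) H2.flip hg3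
  · rw [Category.assoc, hs, ← H2.w_assoc, Scheme.homOfLE_ι]

theorem QE.isOpen (π : U ⟶ B) : IsOpen {y | QE π y} := by
  rw [isOpen_iff_forall_mem_open]
  rintro y ⟨W, T, f, s, hy, hg1, hg, hg', hs⟩
  exact ⟨W, fun z hz => ⟨W, T, f, s, hz, hg1, hg, hg', hs⟩, W.2, hy⟩

theorem locallyQuasiFinite_of_etale {X Y : Scheme.{u}} (f : X ⟶ Y) [Etale f] :
    LocallyQuasiFinite f where
  quasiFinite_appLE {U} hU {V} hV e := by
    have h1 := HasRingHomProperty.appLE @Etale f inferInstance ⟨U, hU⟩ ⟨V, hV⟩ e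
    algebraize [(f.appLE U V e).hom]
    exact inferInstanceAs (Algebra.QuasiFinite Γ(Y, U) Γ(X, V))

/-- smooth morphisms of finite type have finite étale quasi-sections over a non-empty open -/
theorem exists_one [IsLocallyNoetherian B] [Smooth π] [Nonempty U] :
    ∃ V : B.Opens, (V : Set B).Nonempty ∧ ∀ y ∈ V, QE π y := by
  obtain ⟨x₀⟩ := ‹Nonempty U›
  obtain ⟨Z, i, z, _, h2, h3, -⟩ := Groth.Agent.FlatA.EtaleSections.exists_etale_slice_over π x₀
  obtain ⟨_, ⟨Z₀', hZ₀', rfl⟩, hz₀, -⟩ :=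
    Z.isBasis_affineOpens.exists_subset_of_mem_open (Set.mem_univ z) isOpen_univ
  let Z₀ : Z.Opens := Z₀'
  have hZ₀ : IsAffineOpen Z₀ := hZ₀'
  have : IsAffine Z₀.toScheme := hZ₀
  let g : Z₀.toScheme ⟶ B := Z₀.ι ≫ i ≫ π
  have hg : Etale g := by
    change Etale (Z₀.ι ≫ i ≫ π)
    infer_instance
  have hqc : QuasiCompact g := by infer_instance
  have hqf := locallyQuasiFinite_of_etale g
  obtain ⟨V, hV, hfin⟩ := Groth.Agent.FlatA.FiniteDenseOpen.exists_dense_isFinite g
  have hop : IsOpen (Set.range g) := g.isOpenMap.isOpen_range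
  let R : B.Opens := ⟨Set.range g, hop⟩
  have hR : ((R ⊓ V : B.Opens) : Set B).Nonempty := by
    have h5 : (Set.range g).Nonempty := ⟨g ⟨z, hz₀⟩, ⟨_, rfl⟩⟩
    exact (hV.inter_open_nonempty _ hop h5)
  obtain ⟨V', hV', hV'R, hV'V⟩ : ∃ V' : B.Opens, (V' : Set B).Nonempty ∧ V' ≤ R ∧ V' ≤ V :=
    ⟨R ⊓ V, hR, inf_le_left, inf_le_right⟩
  have hloc := Groth.Agent.FlatA.FiniteDenseOpen.isZariskiLocalAtTarget_isFinite.{u}
  refine ⟨V', hV', fun y hy => ?_⟩
  refine ⟨V', (g ⁻¹ᵁ V').toScheme, g ∣_ V', (g ⁻¹ᵁ V').ι ≫ Z₀.ι ≫ i, hy, ?_, ?_, ?_, ?_⟩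
  · exact Groth.Agent.FlatA.FiniteDenseOpen.restrict_of_le @IsFinite g hV'V hfin
  · exact MorphismProperty.of_isPullback (P := @Etale) (isPullback_morphismRestrict g V').flip hg
  · constructor
    intro y
    obtain ⟨w, hw⟩ := hV'R y.2
    obtain ⟨w', h1, -⟩ := Scheme.exists_preimage_of_isPullback (isPullback_morphismRestrict g V')
      y w hw.symm
    exact ⟨w', h1⟩
  · rw [Category.assoc, Category.assoc, morphismRestrict_ι]

variable {k : Type u} [Field k] [IsAlgClosed k] {G Γ Z : Over (Spec (CommRingCat.of k))} [GrpObj G]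
  [GrpObj Γ] (u : G ⟶ Γ) [IsMonHom u]

omit [IsAlgClosed k] [GrpObj G] [IsMonHom u] in
/-- a torsor under a smooth group is smooth -/
theorem smooth_left {p : Γ ⟶ Z} (Hp : IsPullback ((u ▷ Γ) ≫ μ[Γ]) (snd G Γ) p p)
    [Flat p.left] [Surjective p.left] [QuasiCompact p.left] [Smooth G.hom] : Smooth p.left := by
  have H := K957.Pts.isPullback_left Hp
  have h1 : Smooth (snd G Γ).left := by
    change Smooth (pullback.snd G.hom Γ.hom)
    infer_instance
  exact MorphismProperty.of_isPullback_of_descendsAlong (P := @Smooth)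
    (Q := (@Surjective ⊓ @Flat ⊓ @QuasiCompact : MorphismProperty Scheme.{u})) H.flip
    ⟨⟨‹_›, ‹_›⟩, ‹_›⟩ h1

theorem QE_quotient {p : Γ ⟶ Z} (Hp : IsPullback ((u ▷ Γ) ≫ μ[Γ]) (snd G Γ) p p)
    [Flat p.left] [Surjective p.left] [QuasiCompact p.left] [Smooth G.hom]
    [LocallyOfFiniteType Γ.hom] [LocallyOfFiniteType Z.hom]
    (z : Z.left) : QE p.left z := by
  have : IsNoetherianRing (CommRingCat.of k) := inferInstanceAs (IsNoetherianRing k)
  have h1 : IsLocallyNoetherian Z.left := LocallyOfFiniteType.isLocallyNoetherian Z.hom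
  have h2 := LocallyOfFiniteType.jacobsonSpace Z.hom
  have hsm := smooth_left u Hp
  have : Nonempty Γ.left := ⟨(p.left.surjective z).choose⟩
  obtain ⟨V, hV, hVQ⟩ := exists_one (π := p.left)
  refine K957.QSec.forall_of_closedPoints (QE.isOpen p.left) (fun z hz => ?_) z
  obtain ⟨z₀, hz₀⟩ := exists_pt_mem (X := Z) hV V.isOpen.isLocallyClosed
  obtain ⟨z', rfl⟩ := exists_pt z hz
  obtain ⟨c₁, hc₁⟩ := exists_comp_eq_of_pt_mem_range p z' (p.left.surjective _)
  obtain ⟨c₀, hc₀⟩ := exists_comp_eq_of_pt_mem_range p z₀ (p.left.surjective _)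
  obtain ⟨β, hβ⟩ := exists_trans u Hp (c₁⁻¹ * c₀)
  have e : z' ≫ β = z₀ := by
    rw [← hc₁, Category.assoc, ← hβ.w, ← Category.assoc, comp_rtr, ← hc₀]
    congr 1
    rw [toUnit_unique (toUnit (𝟙_ (Over (Spec (CommRingCat.of k))))) (𝟙 _), Category.id_comp,
      mul_inv_cancel_left]
  apply QE.of_isPullback (K957.Pts.isPullback_left hβ)
  apply hVQ
  rw [← pt_comp, e]
  exact hz₀

/-- the quotient `H \ G` and its finite étale quasi-sections -/
theorem exists_quotient [Smooth G.hom] [Smooth Γ.hom] [QuasiCompact Γ.hom]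
    [IsClosedImmersion u.left] :
    ∃ (Z : Over (Spec (CommRingCat.of k))) (p : Γ ⟶ Z), Flat p.left ∧ Surjective p.left ∧
      QuasiCompact p.left ∧ IsPullback ((u ▷ Γ) ≫ μ[Γ]) (snd G Γ) p p ∧ IsSeparated Z.hom ∧
      Smooth Z.hom ∧ QuasiCompact Z.hom ∧ ∀ z : Z.left, QE p.left z := by
  have : Mono u := by
    have : Mono u.left := inferInstance
    exact Over.mono_of_mono_left u
  obtain ⟨Z, p, hpf, hps, hpfp, hpb, hXsep, hXfl, hsm⟩ := Groth.Agent.S3017.result k G Γ u
  have hZ := hsm inferInstance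
  have h1 : QuasiCompact p.left := K957.Bundle.quasiCompact_left p
  refine ⟨Z, p, hpf, hps, h1, hpb, hXsep, hZ, ?_, QE_quotient u hpb⟩
  have h1 : CompactSpace Z.left := by
    have h2 : CompactSpace Γ.left := QuasiCompact.compactSpace_of_compactSpace Γ.hom
    constructor
    rw [← Set.range_eq_univ.2 (Surjective.surj (f := p.left)), ← Set.image_univ]
    exact isCompact_univ.image p.left.continuous
  exact quasiCompact_of_compactSpace Z.hom

end K815.EtQS
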