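import Groth.Agent.AlgGrp.K815.AssocLoc
import Groth.Agent.FlatB.GeomRed
import Groth.Agent.Etcore.SmoothRed
import Groth.Agent.Etbase.FpqcDescent

/-!
# Geometric quotients `G ×^H X`
-/

set_option autoImplicit false
universe u
open CategoryTheory CategoryTheory.Limits MonoidalCategory CartesianMonoidalCategory MonObj GrpObj AlgebraicGeometry

namespace K815.GeomQuot

open K957.Pts K957.QB K957.Restr K957.Invt K957.Glue K815.EtQS K815.AssocLoc

section general

variable {S : Scheme.{u}} {H G P Q X : Over S} [GrpObj H]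

/-- a lift `s : T ⟶ P` of `t : T ⟶ Q` trivializes the principal bundle `P ⟶ Q` over `T` -/
theorem isPullback_of_lift (a : AlgGrp.Action H P) {ρ : P ⟶ Q}
    (Hρ : IsPullback a.act (snd H P) ρ ρ) {T : Over S} (s : T ⟶ P) (t : T ⟶ Q) (hs : s ≫ ρ = t) :
    IsPullback (fst T H) (lift (snd T H) (fst T H ≫ s) ≫ a.act) t ρ := by
  have key : ∀ {T' : Over S} (m : T' ⟶ T ⊗ H), m ≫ lift (snd T H) (fst T H ≫ s) ≫ a.act =
      dot a (m ≫ snd T H) ((m ≫ fst T H) ≫ s) := by
    intro T' m
    rw [dot, comp_lift_assoc, Category.assoc]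
  subst hs
  have w : fst T H ≫ s ≫ ρ = (lift (snd T H) (fst T H ≫ s) ≫ a.act) ≫ ρ := by
    have := key (𝟙 _)
    rw [Category.id_comp, Category.id_comp, Category.id_comp] at this
    rw [this, dot_inv a Hρ.w, Category.assoc]
  refine ⟨⟨w⟩, ⟨PullbackCone.IsLimit.mk _
    (fun c => lift c.fst (exists_dot a Hρ c.snd (c.fst ≫ s) (by
      rw [Category.assoc]; exact c.condition.symm)).choose) ?_ ?_ ?_⟩⟩
  · intro c
    rw [lift_fst]
  · intro c
    rw [key, lift_snd, lift_fst]
    exact (exists_dot a Hρ c.snd (c.fst ≫ s) (by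
      rw [Category.assoc]; exact c.condition.symm)).choose_spec
  · intro c m h1 h2
    have hh := (exists_dot a Hρ c.snd (c.fst ≫ s) (by
      rw [Category.assoc]; exact c.condition.symm)).choose_spec
    generalize (exists_dot a Hρ c.snd (c.fst ≫ s) (by
      rw [Category.assoc]; exact c.condition.symm)).choose = h at hh
    apply CartesianMonoidalCategory.hom_ext
    · rw [lift_fst, h1]
    · rw [lift_snd]
      apply dot_cancel a Hρ (y := c.fst ≫ s)
      rw [hh, ← h2, key, h1]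

variable [GrpObj G] (j : H ⟶ G) [IsMonHom j] (aX : AlgGrp.Action H X) (b : AlgGrp.Action H (G ⊗ X))
  (hb : ∀ (T : Over S) (h : T ⟶ H) (g : T ⟶ G) (x : T ⟶ X),
      lift h (lift g x) ≫ b.act = lift (g * (h ≫ j)⁻¹) (lift h x ≫ aX.act))

omit [IsMonHom j] in
include hb in
theorem dot_b {T : Over S} (h : T ⟶ H) (z : T ⟶ G ⊗ X) :
    dot b h z = lift ((z ≫ fst G X) * (h ≫ j)⁻¹) (dot aX h (z ≫ snd G X)) := by
  have := hb T h (z ≫ fst G X) (z ≫ snd G X)
  rw [lift_comp_fst_snd] at this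
  exact this

theorem dot_mul {T : Over S} (h : T ⟶ H) (g : T ⟶ G) :
    dot ((NonAbH1.trivialAction G).restrict j) h g = (h ≫ j) * g := by
  rw [dot, AlgGrp.Action.lift_restrict_act]
  rfl

omit [GrpObj H] in
theorem comp_ι {T : Over S} (g : T ⟶ G) : g ≫ ι[G] = g⁻¹ := rfl

instance isIso_ι : IsIso (ι[G] : G ⟶ G) := ⟨ι[G], by simp, by simp⟩

include hb in
/-- `(g, x) ↦ (g⁻¹, x)` turns the left action into the action on the associated bundle -/
theorem equivariant_e : AlgGrp.Action.IsEquivariant (((NonAbH1.trivialAction G).restrict j).prod aX) b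
    (ι[G] ▷ X) := by
  apply isEquivariant_of_dot
  intro T h z
  rw [dot_b j aX b hb]
  apply CartesianMonoidalCategory.hom_ext
  · rw [whisker_fst, dot_prod_fst, whisker_fst, lift_fst, dot_mul, comp_ι, comp_ι, _root_.mul_inv_rev]
  · rw [whisker_snd, dot_prod_snd, whisker_snd, lift_snd]

include hb in
theorem equivariant_F : AlgGrp.Action.IsEquivariant b ((NonAbH1.trivialAction G).restrict j)
    (fst G X ≫ ι[G]) := by
  apply isEquivariant_of_dot
  intro T h z
  rw [dot_b j aX b hb, ← Category.assoc, lift_fst, dot_mul, ← Category.assoc, comp_ι, comp_ι,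
    _root_.mul_inv_rev, _root_.inv_inv]

end general

section field

variable {k : Type u} [Field k] [IsAlgClosed k]
    {G H X : Over (Spec (CommRingCat.of k))} [GrpObj G] [Smooth G.hom] [QuasiCompact G.hom]
    [GrpObj H] (j : H ⟶ G) [IsMonHom j] [IsClosedImmersion j.left] [Smooth H.hom]
    [LocallyOfFiniteType X.hom] [QuasiCompact X.hom] [IsSeparated X.hom] [IsReduced X.left]
    (hF : ∀ F : Finset ↥X.left, ∃ U : X.left.Opens, IsAffineOpen U ∧ (↑F : Set ↥X.left) ⊆ (U : Set ↥X.left))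
    (aX : AlgGrp.Action H X) (b : AlgGrp.Action H (G ⊗ X))
    (hb : ∀ (T : Over (Spec (CommRingCat.of k))) (h : T ⟶ H) (g : T ⟶ G) (x : T ⟶ X),
      lift h (lift g x) ≫ b.act = lift (g * (h ≫ j)⁻¹) (lift h x ≫ aX.act))

omit [IsSeparated X.hom] [IsReduced X.left] in
include hF hb in
/-- the quotient with its map to `H \ G` -/
theorem exists_bundle :
    ∃ (Q B : Over (Spec (CommRingCat.of k))) (ρ : G ⊗ X ⟶ Q) (p : G ⟶ B) (δ : Q ⟶ B),
      QuasiCompact ρ.left ∧ Flat ρ.left ∧ Surjective ρ.left ∧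
      IsPullback b.act (snd H (G ⊗ X)) ρ ρ ∧ IsPullback (fst G X ≫ ι[G]) ρ p δ ∧
      Flat p.left ∧ Surjective p.left ∧ QuasiCompact p.left ∧ IsSeparated B.hom ∧ Smooth B.hom ∧
      ∀ y : B.left, QE p.left y := by
  obtain ⟨B, p, p1, p2, p3, Hp, B1, B2, B3, hQ⟩ := exists_quotient j
  have hbun := hasBundle_prod ((NonAbH1.trivialAction G).restrict j) aX Hp hQ hF
  obtain ⟨Q, ρ, hρ, r1, r2, r3, r4⟩ := HasBundle.of_iso (ι[G] ▷ X) (equivariant_e j aX b hb) hbun
  have Hρ := isPullback_of_isIso b hρ r4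
  obtain ⟨δ, hδ⟩ := K957.DescOver.exists_cartesian b ((NonAbH1.trivialAction G).restrict j) Hρ Hp
    (fst G X ≫ ι[G]) (equivariant_F j aX b hb)
  exact ⟨Q, B, ρ, p, δ, r1, r2, r3, Hρ, hδ, p1, p2, p3, B1, B2, hQ⟩

include hF hb in
/-- **Geometric quotients of `G × X` by `H`.** -/
theorem main :
    ∃ (Q : Over (Spec (CommRingCat.of k))) (q : G ⊗ X ⟶ Q) (hinv : GIT.IsInvariant b q),
      (LocallyOfFiniteType Q.hom ∧ QuasiCompact Q.hom ∧ IsSeparated Q.hom ∧ IsReduced Q.left) ∧
      (Function.Surjective q.left.base ∧ IsOpenMap q.left.base ∧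
        Function.Surjective (GIT.PsiY b q hinv).base ∧
        ∀ U : Q.left.Opens, Function.Injective (q.left.app U) ∧
          Set.range (q.left.app U) = {f | GIT.IsInvSection b q U f}) ∧
      (IsIso (GIT.PsiY b q hinv) ∧ Flat q.left) ∧
      ∀ y : ↥Q.left, ∃ (U : Q.left.Opens) (_ : y ∈ U) (U' : Scheme.{u}) (φ : U' ⟶ ↑U)
        (_ : IsFinite φ) (_ : Etale φ) (_ : Surjective φ) (s : Over.mk (φ ≫ U.ι ≫ Q.hom) ⟶ G ⊗ X),
        s.left ≫ q.left = φ ≫ U.ι ∧
        IsPullback (fst (Over.mk (φ ≫ U.ι ≫ Q.hom)) H).left (lift (snd (Over.mk (φ ≫ U.ι ≫ Q.hom)) H) (fst (Over.mk (φ ≫ U.ι ≫ Q.hom)) H ≫ s) ≫ b.act).left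
          (φ ≫ U.ι) q.left := by
  obtain ⟨Q, B, ρ, p, δ, r1, r2, r3, Hρ, hδ, p1, p2, p3, B1, B2, hQ⟩ := exists_bundle j hF aX b hb
  have hinv : GIT.IsInvariant b ρ := Hρ.w
  have hiso := isIso_of_isPullback b hinv Hρ
  have hN : IsNoetherianRing (CommRingCat.of k) := inferInstanceAs (IsNoetherianRing k)
  -- properties of `G × X → G`
  have f1 : IsSeparated (fst G X ≫ ι[G]).left := by
    rw [Over.comp_left]
    have : IsSeparated (fst G X).left := by
      change IsSeparated (pullback.fst G.hom X.hom)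
      infer_instance
    have : IsIso (ι[G] : G ⟶ G).left := inferInstanceAs (IsIso ((Over.forget _).map ι[G]))
    infer_instance
  have f2 : LocallyOfFiniteType (fst G X ≫ ι[G]).left := by
    rw [Over.comp_left]
    have : LocallyOfFiniteType (fst G X).left := by
      change LocallyOfFiniteType (pullback.fst G.hom X.hom)
      infer_instance
    have : IsIso (ι[G] : G ⟶ G).left := inferInstanceAs (IsIso ((Over.forget _).map ι[G]))
    infer_instance
  have sq := isPullback_left hδ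
  have hQP : (@Surjective ⊓ @Flat ⊓ @QuasiCompact : MorphismProperty Scheme.{u}) p.left :=
    ⟨⟨p2, p1⟩, p3⟩
  have d1 : IsSeparated δ.left :=
    MorphismProperty.of_isPullback_of_descendsAlong (P := @IsSeparated) sq hQP f1
  have d2 : LocallyOfFiniteType δ.left :=
    MorphismProperty.of_isPullback_of_descendsAlong (P := @LocallyOfFiniteType) sq hQP f2
  have q1 : LocallyOfFiniteType Q.hom := by rw [← Over.w δ]; infer_instance
  have q2 : IsSeparated Q.hom := by rw [← Over.w δ]; infer_instance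
  have gx1 : QuasiCompact (G ⊗ X).hom := by
    change QuasiCompact (pullback.fst G.hom X.hom ≫ G.hom)
    infer_instance
  have gx2 : LocallyOfFiniteType (G ⊗ X).hom := by
    change LocallyOfFiniteType (pullback.fst G.hom X.hom ≫ G.hom)
    infer_instance
  have gx3 : IsReduced (G ⊗ X).left := by
    have : Smooth (snd G X).left := by
      change Smooth (pullback.snd G.hom X.hom)
      infer_instance
    exact Groth.Agent.Etcore.SmoothRed.isReduced_of_smooth (snd G X).left
  have q3 : QuasiCompact Q.hom := by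
    have h1 : CompactSpace Q.left := by
      have h2 : CompactSpace (G ⊗ X).left := QuasiCompact.compactSpace_of_compactSpace (G ⊗ X).hom
      constructor
      rw [← Set.range_eq_univ.2 (Surjective.surj (f := ρ.left)), ← Set.image_univ]
      exact isCompact_univ.image ρ.left.continuous
    exact quasiCompact_of_compactSpace Q.hom
  have q4 : IsReduced Q.left :=
    Groth.Agent.FlatB.GeomRed.isReduced_of_flat_of_surjective ρ.left
  have hlf : LocallyOfFinitePresentation ρ.left := by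
    have : IsLocallyNoetherian Q.left := LocallyOfFiniteType.isLocallyNoetherian Q.hom
    have : LocallyOfFiniteType ρ.left := K957.Bundle.locallyOfFiniteType_left ρ
    exact LocallyOfFinitePresentation.iff_locallyOfFiniteType.2 inferInstance
  have hgq := K957.Bundle.isGeomQuot b ρ hinv hiso
  refine ⟨Q, ρ, hinv, ⟨q1, q3, q2, q4⟩, ⟨ρ.left.surjective, ρ.left.isOpenMap,
    hgq.orbit, fun U => hgq.sections U⟩, ⟨hiso, r2⟩, fun y => ?_⟩
  obtain ⟨W, T, f, s, hy, hf1, hf2, hf3, hs⟩ := hQ (δ.left y)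
  have sq2 : IsPullback (pullback.fst (δ.left ∣_ W) f) (pullback.snd (δ.left ∣_ W) f)
    (δ.left ∣_ W) f := IsPullback.of_hasPullback _ _
  have e1 : pullback.fst (δ.left ∣_ W) f ≫ (δ.left ⁻¹ᵁ W).ι ≫ Q.hom ≫ 𝟙 _ =
      (pullback.snd (δ.left ∣_ W) f ≫ s) ≫ G.hom := by
    rw [Category.comp_id, ← Over.w p, Category.assoc, reassoc_of% hs, ← sq2.w_assoc,
      morphismRestrict_ι_assoc, Over.w]
  let T' : Over (Spec (CommRingCat.of k)) :=
    Over.mk (pullback.fst (δ.left ∣_ W) f ≫ (δ.left ⁻¹ᵁ W).ι ≫ Q.hom)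
  let s₀ : T' ⟶ G := Over.homMk (pullback.snd (δ.left ∣_ W) f ≫ s) (by
    rw [← e1, Category.comp_id]; rfl)
  let t : T' ⟶ Q := Over.homMk (pullback.fst (δ.left ∣_ W) f ≫ (δ.left ⁻¹ᵁ W).ι) (by
    rw [Category.assoc]; rfl)
  have e2 : s₀ ≫ p = t ≫ δ := by
    apply Over.OverMorphism.ext
    change (pullback.snd (δ.left ∣_ W) f ≫ s) ≫ p.left =
      (pullback.fst (δ.left ∣_ W) f ≫ (δ.left ⁻¹ᵁ W).ι) ≫ δ.left
    rw [Category.assoc, hs, ← sq2.w_assoc, morphismRestrict_ι, Category.assoc]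
  let s' : T' ⟶ G ⊗ X := hδ.lift s₀ t e2
  have hs' : s' ≫ ρ = t := hδ.lift_snd _ _ _
  refine ⟨δ.left ⁻¹ᵁ W, hy, _, pullback.fst (δ.left ∣_ W) f, ?_, ?_, ?_, s', ?_, ?_⟩
  · exact MorphismProperty.of_isPullback (P := @IsFinite) sq2.flip hf1
  · exact MorphismProperty.of_isPullback (P := @Etale) sq2.flip hf2
  · exact MorphismProperty.of_isPullback (P := @Surjective) sq2.flip hf3
  · exact congrArg CommaMorphism.left hs'
  · exact isPullback_left (isPullback_of_lift b Hρ s' t hs')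

end field

end K815.GeomQuot
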